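/-
S3617: the interfaces (F-sets with solvable lines; the central case).
-/
import Cfsg.Agent.FSet.Pre

set_option autoImplicit false

open Cfsg Subgroup CL.Grp CL.Even CL.FSet

namespace CL.FS2

universe u v

/-- `CL.FSet.Pre` with "the second derived group of a line is central in it" in place of "lines have odd order" -/
structure PreS {G : Type*} [Group G] (p m : ℕ) (D : Set (Subgroup G)) : Prop where
  pp : p.Prime
  p2 : p ≠ 2
  card : ∀ A ∈ D, Nat.card A = p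
  inv : ∀ A ∈ D, ∀ g, cj g A ∈ D
  sol : ∀ A ∈ D, ∀ B ∈ D, dr (dr (A ⊔ B)) ≤ 𝒞(A ⊔ B)
  lm : ∀ A ∈ D, ∀ B ∈ D, A ≠ B → Nat.card ↥(A ⊔ B) = m
  na : ∀ A ∈ D, ∀ B ∈ D, A ≠ B → dr (A ⊔ B) ≠ ⊥
  dd : (∀ A ∈ D, ∀ B ∈ D, A ≠ B → dr (dr (A ⊔ B)) = ⊥) ∨ ∀ A ∈ D, ∀ B ∈ D, A ≠ B → dr (dr (A ⊔ B)) ≠ ⊥

/-- the F-set theorem for all primes `q` -/
def FSAll : Prop := ∀ (G : Type u) [Group G] [Finite G] (p m : ℕ) (D : Set (Subgroup G)), PreS p m D →
  dg D ⊤ = ⊤ → ∃ q : ℕ, q.Prime ∧ IsPGroup q (dr (⊤ : Subgroup G))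

/-- the central case: in a doubly transitive group no non-trivial element of a non-abelian simple normal subgroup
`T` acting non-trivially is centralised by a point stabiliser of `T` -/
def Cen : Prop := ∀ (A : Type u) (Ω : Type v) [Group A] [Finite A] [MulAction A Ω] [Finite Ω],
  MulAction.IsMultiplyPretransitive A Ω 2 → ∀ T : Subgroup A, T.Normal → IsSimpleGroup T → ¬ IsMulCommutative T →
  (∃ t ∈ T, ∃ c : Ω, t • c ≠ c) → ∀ (b : Ω) (x : A), x ∈ T → (∀ t ∈ T, t • b = b → Commute t x) → x = 1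

end CL.FS2
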