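/-
S3617: a normal subgroup with trivial two-point stabilisers in a doubly transitive group.
-/
import Cfsg.Agent.FS2.Defs
import Cfsg.Agent.Perm.PrimBurnside
import Cfsg.Agent.Grp.FrobKernel

set_option autoImplicit false

open Cfsg Subgroup CL.Grp CL.Even CL.FSet CL.Perm MulAction
open scoped commutatorElement

namespace CL.FS2.Cn

theorem reg0 {P Λ : Type*} [Group P] [Finite P] [MulAction P Λ] [FaithfulSMul P Λ] [Finite Λ]
    (h2 : IsMultiplyPretransitive P Λ 2) {M : Subgroup P} [M.Normal]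
    (fr : ∀ m ∈ M, ∀ d e : Λ, d ≠ e → m • d = d → m • e = e → m = 1)
    {E : Subgroup P} (EM : E ≤ M) {p : ℕ} [Fact p.Prime] (hE : IsPGroup p E) [IsMulCommutative E] (E0 : E ≠ ⊥)
    {b : Λ} (Eb : ∀ e ∈ E, e • b = b) :
    IsCyclic E ∧ ∃ V ≤ M, V.Normal ∧ IsMulCommutative V ∧ IsPretransitive V Λ := by
  obtain ⟨V, hV, VM⟩ := exists_isMinNormal_le M (fun e => E0 (eq_bot_iff.2 (EM.trans e.le)))
  have := hV.normal
  have := isPreprimitive_of_is_two_pretransitive h2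
  have tr : IsPretransitive V Λ := isPretransitive_of_normal_of_ne_bot hV.ne_bot
  rcases burnside_isMinNormal h2 hV with ⟨c, ⟨r, hr, k⟩, reg⟩ | ⟨s, -, -, st⟩
  · refine ⟨by_contra fun nc => ?_, V, VM, hV.normal, c, tr⟩
    have fp : ∀ e ∈ E, e ≠ 1 → V ⊓ centralizer {e} ≤ ⊥ := fun e he e1 v hv => by
      have j : e • v • b = v • b := by
        rw [smul_smul, ← mem_centralizer_singleton_iff.1 hv.2, mul_smul, Eb e he]
      have j' : v • b = b := by_contra fun q => e1 (fr e (EM he) _ _ q j (Eb e he))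
      have : (⟨v, hv.1⟩ : V) ∈ stabilizer V b := j'
      rw [reg b, mem_bot] at this
      exact mem_bot.2 (congrArg Subtype.val this)
    have := Fact.mk hr
    have pV : IsPGroup r V := fun v => ⟨1, Subtype.ext (by simpa using k v v.2)⟩
    by_cases j : p = r
    · subst j
      obtain ⟨⟨e, he⟩, e1⟩ := ne_bot_iff_exists_ne_one.1 E0
      exact inf_cent_ne_bot pV hE le_normalizer_of_normal hV.ne_bot (eq_bot_iff.2 ((inf_le_inf_left _
        (centralizer_le (Set.singleton_subset_iff.2 he))).trans (fp e he fun q => e1 (Subtype.ext q))))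
    · exact hV.ne_bot (eq_bot_iff.2 (le_of_forall_centralizer_le nc le_normalizer_of_normal
        (IsPGroup.coprime_card_of_ne p r j _ _ hE pV) fp))
  · exfalso
    have mal : IsMalnormal (stabilizer V b) := fun h hh h1 g hg => by
      by_contra q
      refine h1 (Subtype.ext (fr h (VM h.2) b (g⁻¹ • b) (fun j => q ?_) hh ?_))
      · rw [mem_stabilizer_iff]; exact (eq_inv_smul_iff.1 j)
      · have : (g * h * g⁻¹) • b = b := hg
        rw [mul_smul, mul_smul, smul_eq_iff_eq_inv_smul] at this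
        exact this
    have nt : stabilizer V b ≠ ⊤ := fun e => by
      have : Nontrivial Λ := nontrivial_of_ne_bot hV.ne_bot
      obtain ⟨c, hc⟩ := exists_ne b
      obtain ⟨v, hv⟩ := tr.exists_smul_eq b c
      exact hc (hv.symm.trans (e.ge (mem_top v)))
    rcases s.eq_bot_or_eq_top_of_normal _ (frobKernelSubgroup_normal mal) with j | j
    · exact frobKernelSubgroup_ne_bot mal nt j
    · have := (isComplement'_frobKernelSubgroup mal).disjoint
      rw [j, top_disjoint] at this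
      exact st b this

theorem reg1 {N Λ : Type*} [Group N] [Finite N] [MulAction N Λ] [Finite Λ]
    (h2 : ∀ a b c d : Λ, a ≠ b → c ≠ d → ∃ g : N, g • a = c ∧ g • b = d) {M : Subgroup N} [M.Normal]
    (fr : ∀ m ∈ M, ∀ d e : Λ, d ≠ e → m • d = d → m • e = e → ∀ f : Λ, m • f = f)
    {E : Subgroup N} (EM : E ≤ M) {p : ℕ} [Fact p.Prime] (hE : IsPGroup p E) [IsMulCommutative E] (E0 : E ≠ ⊥)
    {b c : Λ} (Eb : ∀ e ∈ E, e • b = b) (Ec : ∀ e ∈ E, e • c = c → e = 1) :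
    IsCyclic E ∧ ∃ W ≤ M, W.Normal ∧ (∃ w ∈ W, w • b = c) ∧ ∀ w ∈ ⁅W, W⁆, ∀ d : Λ, w • d = d := by
  let φ := (toPermHom N Λ).rangeRestrict
  have sj : Function.Surjective φ := MonoidHom.rangeRestrict_surjective _
  have ap : ∀ (n : N) (d : Λ), φ n • d = n • d := fun _ _ => rfl
  have := (inferInstance : M.Normal).map φ sj
  have : IsMulCommutative (E.map φ) := inferInstance
  have inj : ∀ e ∈ E, φ e = 1 → e = 1 := fun e he j => Ec e he (by rw [← ap, j, one_smul])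
  obtain ⟨cy, V, VM, nV, cV, tr⟩ := reg0 (P := (toPermHom N Λ).range) (Λ := Λ) (M := M.map φ) (E := E.map φ) (b := b)
    (is_two_pretransitive_iff.2 fun {a b c d} k k' => let ⟨g, j⟩ := h2 a b c d k k'; ⟨φ g, j⟩)
    (by rintro _ ⟨m, hm, rfl⟩ d e k j j'; exact Subtype.ext (Equiv.ext (fr m hm d e k j j')))
    (map_mono EM) (hE.map φ)
    (fun j => E0 ((eq_bot_iff_forall _).2 fun e he => inj e he (mem_bot.1 (j.le (mem_map_of_mem φ he)))))
    (by rintro _ ⟨e, he, rfl⟩; exact Eb e he)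
  refine ⟨isCyclic_of_injective (φ.subgroupMap E) ((injective_iff_map_eq_one _).2 fun e j =>
    Subtype.ext (inj e e.2 (congrArg Subtype.val j))), V.comap φ ⊓ M, inf_le_right, inferInstance, ?_, fun w hw d => ?_⟩
  · obtain ⟨⟨v, hv⟩, j⟩ := tr.exists_smul_eq b c
    obtain ⟨m, hm, rfl⟩ := VM hv
    exact ⟨m, ⟨hv, hm⟩, j⟩
  · have l : (V.comap φ ⊓ M).map φ ≤ V := map_le_iff_le_comap.2 inf_le_left
    have j := mem_map_of_mem φ hw
    rw [map_commutator] at j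
    have e : ⁅V, V⁆ = ⊥ := commutator_eq_bot_iff'.2 (le_centralizer V)
    rw [← ap, mem_bot.1 (e.le (commutator_mono l l j)), one_smul]

/-- the ambient form -/
theorem reg {A Ω : Type*} [Group A] [Finite A] [MulAction A Ω] [Finite Ω] {N M E : Subgroup A} {Λ : Set Ω}
    (inv : ∀ n ∈ N, ∀ d ∈ Λ, n • d ∈ Λ)
    (h2 : ∀ a ∈ Λ, ∀ b ∈ Λ, ∀ c ∈ Λ, ∀ d ∈ Λ, a ≠ b → c ≠ d → ∃ g ∈ N, g • a = c ∧ g • b = d) (MN : M ≤ N)
    (nM : N ≤ 𝒩(M)) (fr : ∀ m ∈ M, ∀ d ∈ Λ, ∀ e ∈ Λ, d ≠ e → m • d = d → m • e = e → ∀ f ∈ Λ, m • f = f)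
    (EM : E ≤ M) {p : ℕ} [Fact p.Prime] (hE : IsPGroup p E) (cE : E ≤ 𝒞(E)) (E0 : E ≠ ⊥)
    {b c : Ω} (hb : b ∈ Λ) (hc : c ∈ Λ) (Eb : ∀ e ∈ E, e • b = b) (Ec : ∀ e ∈ E, e • c = c → e = 1) :
    IsCyclic E ∧ ∃ W ≤ M, N ≤ 𝒩(W) ∧ (∃ w ∈ W, w • b = c) ∧ ∀ w ∈ ⁅W, W⁆, ∀ d ∈ Λ, w • d = d := by
  let S : SubMulAction N Ω := ⟨Λ, fun n _ hd => inv n n.2 _ hd⟩
  have := (normal_subgroupOf_iff_le_normalizer MN).2 nM
  have : IsMulCommutative (E.subgroupOf N) := ⟨⟨fun x y => Subtype.ext (Subtype.ext (cE y.2 _ x.2))⟩⟩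
  have EN := EM.trans MN
  obtain ⟨cy, W, WM, nW, ⟨w, hw, j⟩, k⟩ := reg1 (N := N) (Λ := S) (M := M.subgroupOf N) (E := E.subgroupOf N)
    (b := ⟨b, hb⟩) (c := ⟨c, hc⟩)
    (fun a b c d k k' => by
      obtain ⟨g, g1, g2, g3⟩ := h2 a a.2 b b.2 c c.2 d d.2 (fun e => k (Subtype.ext e)) (fun e => k' (Subtype.ext e))
      exact ⟨⟨g, g1⟩, Subtype.ext g2, Subtype.ext g3⟩)
    (fun m hm d e k j j' f => Subtype.ext (fr m hm d d.2 e e.2 (fun e => k (Subtype.ext e))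
      (congrArg Subtype.val j) (congrArg Subtype.val j') f f.2))
    (comap_mono EM) (hE.comap_subtype) (fun e => E0 (by rwa [subgroupOf_eq_bot, disjoint_iff, inf_eq_left.2 EN] at e))
    (fun e he => Subtype.ext (Eb e he)) (fun e he j => Subtype.ext (Ec e he (congrArg Subtype.val j)))
  refine ⟨isCyclic_of_surjective _ (subgroupOfEquivOfLe EN).surjective, W.map N.subtype,
    map_le_iff_le_comap.2 WM, ?_, ⟨w, mem_map_of_mem _ hw, congrArg Subtype.val j⟩, fun w hw d hd => ?_⟩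
  · refine le_norm_of_cj_le ?_
    rintro g hg _ ⟨_, ⟨x, hx, rfl⟩, rfl⟩
    exact ⟨_, nW.conj_mem x hx ⟨g, hg⟩, rfl⟩
  · rw [← map_commutator] at hw
    obtain ⟨x, hx, rfl⟩ := hw
    exact congrArg Subtype.val (k x hx ⟨d, hd⟩)

end CL.FS2.Cn
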