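/-
S3617: the central case follows from the F-set theorem.
-/
import Cfsg.Agent.FS2.Frob
import Cfsg.Agent.Inv.ZStar
import Cfsg.Agent.Grp.ExtraHall

set_option autoImplicit false

open Cfsg Subgroup CL.Grp CL.Even CL.FSet CL.Perm MulAction Function
open scoped commutatorElement

namespace CL.FS2.Cn

universe u v

/-- the F-set theorem for all primes `q`, when the normaliser of a member centralises it -/
def FSN : Prop := ∀ (G : Type u) [Group G] [Finite G] (p m : ℕ) (D : Set (Subgroup G)), PreS p m D →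
  (∀ A ∈ D, 𝒩(A) ≤ 𝒞(A)) → dg D ⊤ = ⊤ → ∃ q : ℕ, q.Prime ∧ IsPGroup q (dr (⊤ : Subgroup G))

theorem _root_.CL.FS2.PreS.comap {G G' : Type*} [Group G] [Group G'] {p m : ℕ} {D : Set (Subgroup G)} (h : PreS p m D)
    {f : G' →* G} (hf : Injective f) : PreS p m {A | A.map f ∈ D} := by
  have ne : ∀ {A B : Subgroup G'}, A ≠ B → A.map f ≠ B.map f := fun k e => k (map_injective hf e)
  have cd : ∀ A : Subgroup G', Nat.card (A.map f) = Nat.card A := fun A => card_map_of_injective hf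
  have b0 : ∀ A : Subgroup G', A.map f = ⊥ ↔ A = ⊥ := fun A => map_eq_bot_iff_of_injective A hf
  refine ⟨h.pp, h.p2, fun A hA => (cd A).symm.trans (h.card _ hA), fun A hA g => ?_, fun A hA B hB x hx y hy => hf ?_,
    fun A hA B hB k => ?_, fun A hA B hB k => ?_, h.dd.imp (fun j A hA B hB k => ?_) fun j A hA B hB k => ?_⟩
  · rw [Set.mem_ofPred_eq, map_cj]; exact h.inv _ hA _
  · have := h.sol _ hA _ hB
    rw [← Subgroup.map_sup, ← map_dr, ← map_dr] at this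
    rw [map_mul, map_mul]
    exact this (mem_map_of_mem f hx) _ (mem_map_of_mem f hy)
  · rw [← cd, Subgroup.map_sup]; exact h.lm _ hA _ hB (ne k)
  · rw [Ne, ← b0, map_dr, Subgroup.map_sup]; exact h.na _ hA _ hB (ne k)
  · rw [← b0, map_dr, map_dr, Subgroup.map_sup]; exact j _ hA _ hB (ne k)
  · rw [Ne, ← b0, map_dr, map_dr, Subgroup.map_sup]; exact j _ hA _ hB (ne k)

section
variable {A Ω : Type*} [Group A] [MulAction A Ω] (T : Subgroup A)

/-- the elements of `T` centralising `T_b` -/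
def Zc (b : Ω) : Subgroup A := T ⊓ 𝒞(T ⊓ stabilizer A b)

/-- the two-point stabiliser -/
def S2 (b c : Ω) : Subgroup A := T ⊓ stabilizer A b ⊓ stabilizer A c

variable {T} {b c : Ω} {z t : A}

theorem cj_stab (a : A) (b : Ω) : cj a (stabilizer A b) = stabilizer A (a • b) :=
  (stabilizer_smul_eq_stabilizer_map_conj a b).symm

theorem cj_Zc [T.Normal] (a : A) (b : Ω) : cj a (Zc T b) = Zc T (a • b) := by
  rw [Zc, cj_inf, cj_cent, cj_inf, cj_stab, cj_eq (le_normalizer_of_normal (mem_top a)), Zc]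

theorem cj_S2 [T.Normal] (a : A) (b c : Ω) : cj a (S2 T b c) = S2 T (a • b) (a • c) := by
  rw [S2, cj_inf, cj_inf, cj_stab, cj_stab, cj_eq (le_normalizer_of_normal (mem_top a)), S2]

variable [Finite A] [FaithfulSMul A Ω] [Finite Ω] [T.Normal] [IsSimpleGroup T]

theorem fix (h2 : IsMultiplyPretransitive A Ω 2) (nc : ¬ IsMulCommutative T) (hz : z ∈ Zc T b) (z1 : z ≠ 1)
    (ht : t ∈ T) (k : t * z = z * t) : t • b = b := by
  have T0 : T ≠ ⊥ := fun e => z1 (mem_bot.1 (e.le hz.1))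
  have mn : IsMinNormal T := ⟨inferInstance, T0, fun K hK l => by
    rcases IsSimpleGroup.eq_bot_or_eq_top_of_normal (K.subgroupOf T) inferInstance with j | j
    · left; rwa [subgroupOf_eq_bot, disjoint_iff, inf_eq_left.2 l] at j
    · exact .inr (le_antisymm l (subgroupOf_eq_top.1 j))⟩
  rcases burnside_isMinNormal h2 mn with ⟨c, -⟩ | ⟨-, pr, -⟩
  · exact absurd c nc
  have : Nontrivial Ω := nontrivial_of_ne_bot T0
  have co := IsPreprimitive.isCoatom_stabilizer_of_isPreprimitive T b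
  have l : stabilizer T b ≤ centralizer {(⟨z, hz.1⟩ : T)} := fun s hs =>
    mem_centralizer_singleton_iff.2 (Subtype.ext (hz.2 s ⟨s.2, hs⟩))
  rcases l.eq_or_lt with e | e
  · exact (e.ge (mem_centralizer_singleton_iff.2 (Subtype.ext k : (⟨t, ht⟩ : T) * _ = _)) :)
  · rcases IsSimpleGroup.eq_bot_or_eq_top_of_normal (center T) inferInstance with j | j
    · refine absurd (congrArg Subtype.val (mem_bot.1 (j.le (mem_center_iff.2 fun g => ?_ : (⟨z, hz.1⟩ : T) ∈ _)))) z1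
      exact mem_centralizer_singleton_iff.1 ((co.2 _ e).ge (mem_top g))
    · exact absurd ⟨⟨fun x y => (mem_center_iff.1 (j.ge (mem_top y)) x)⟩⟩ nc

theorem fix' (h2 : IsMultiplyPretransitive A Ω 2) (nc : ¬ IsMulCommutative T) (hz : z ∈ Zc T b) : z • b = b := by
  by_cases z1 : z = 1
  · rw [z1, one_smul]
  · exact fix h2 nc hz z1 hz.1 rfl

theorem semi (h2 : IsMultiplyPretransitive A Ω 2) (nc : ¬ IsMulCommutative T) (hz : z ∈ Zc T b) (k : c ≠ b)
    (hc : z • c = c) : z = 1 := by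
  by_contra z1
  refine z1 (eq_of_smul_eq_smul fun d : Ω => ?_)
  rw [one_smul]
  by_cases j : d = b
  · rw [j]; exact fix' h2 nc hz
  obtain ⟨a, a1, a2⟩ := is_two_pretransitive_iff.1 h2 (Ne.symm j) k
  have h' := conj_mem_cj a hz
  rw [cj_Zc, a1] at h'
  have := fix h2 nc hz z1 h'.1 (h'.2 z ⟨hz.1, hc⟩).symm
  rwa [← a2, mul_smul, inv_smul_smul, mul_smul, smul_left_cancel_iff] at this

theorem key (h2 : IsMultiplyPretransitive A Ω 2) (nc : ¬ IsMulCommutative T) (k : c ≠ b) {E : Subgroup A}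
    (hE : E ≤ Zc T b) {p : ℕ} [Fact p.Prime] (pE : IsPGroup p E) (E0 : E ≠ ⊥) :
    IsCyclic E ∧ ∃ W, 𝒩(S2 T b c) ≤ 𝒩(W) ∧ (∃ w ∈ W, w • b = c) ∧ ⁅W, W⁆ ≤ S2 T b c := by
  have e2 : ∀ d ∈ {d : Ω | S2 T b c ≤ stabilizer A d}, ∀ e ∈ {d : Ω | S2 T b c ≤ stabilizer A d}, d ≠ e →
      S2 T b c = S2 T d e := fun d hd e he j => by
    obtain ⟨a, a1, a2⟩ := is_two_pretransitive_iff.1 h2 k.symm j
    exact eq_of_le_of_card_ge (le_inf (le_inf (inf_le_left.trans inf_le_left) hd) he)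
      (by rw [← a1, ← a2, ← cj_S2, card_cj])
  have Eb : E ≤ T ⊓ stabilizer A b := fun e he => ⟨(hE he).1, fix' h2 nc (hE he)⟩
  obtain ⟨cy, W, WM, nW, tr, j⟩ := reg (N := 𝒩(S2 T b c)) (M := T ⊓ 𝒩(S2 T b c)) (E := E)
    (Λ := {d : Ω | S2 T b c ≤ stabilizer A d}) (b := b) (c := c)
    (fun n hn d hd => by
      rw [Set.mem_ofPred_eq, ← cj_stab, ← cj_eq hn]; exact cj_mono n hd)
    (fun d hd e he d' hd' e' he' j j' => by
      obtain ⟨a, a1, a2⟩ := is_two_pretransitive_iff.1 h2 j j'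
      refine ⟨a, cj_eq_iff_mem.1 ?_, a1, a2⟩
      conv_lhs => rw [e2 d hd e he j, cj_S2, a1, a2, ← e2 d' hd' e' he' j'])
    inf_le_right (le_norm_inf le_normalizer_of_normal le_normalizer)
    (fun m hm d hd e he j j1 j2 f hf => hf ((e2 d hd e he j).ge ⟨⟨hm.1, j1⟩, j2⟩))
    (le_inf (hE.trans inf_le_left) (hE.trans (inf_le_right.trans ((cent_mono inf_le_left).trans (cent_le_norm _)))))
    pE (hE.trans (inf_le_right.trans (cent_mono Eb))) E0 (fun _ h => h.1.2) (fun _ h => h.2)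
    (fun e he => (Eb he).2) fun e he j => semi h2 nc (hE he) k j
  exact ⟨cy, W, nW, tr, fun w hw => ⟨⟨(dr_le W).trans (WM.trans inf_le_left) hw,
    j w hw b fun _ h => h.1.2⟩, j w hw c fun _ h => h.2⟩⟩

theorem uniq (h2 : IsMultiplyPretransitive A Ω 2) (nc : ¬ IsMulCommutative T) {p : ℕ} (hp : p.Prime)
    {B C : Subgroup A} (hB : B ≤ Zc T b) (hC : C ≤ Zc T b) (cB : Nat.card B = p) (cC : Nat.card C = p) : B = C := by
  have := Fact.mk hp
  obtain ⟨x, hx, x1⟩ := pr_ex hp cB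
  have : Nontrivial Ω := nontrivial_of_ne_bot (N := B) fun e => x1 (mem_bot.1 (e.le hx))
  obtain ⟨c, k⟩ := exists_ne b
  have n : B ≤ 𝒩(C) := hB.trans (inf_le_right.trans ((cent_mono fun e he =>
    mem_inf.2 ⟨(hC he).1, fix' h2 nc (hC he)⟩).trans (cent_le_norm _)))
  have cy := (key h2 nc k (sup_le hB hC) ((pr_isP cB).to_sup_of_normal_right' (pr_isP cC) n)
    fun e => x1 (mem_bot.1 (e.le (mem_sup_left hx)))).1
  have pw : ∀ {U : Subgroup A}, Nat.card U = p → ∀ y ∈ U, y ^ p = 1 := fun {U} cU y hy =>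
    congrArg Subtype.val (cU ▸ pow_card_eq_one' : (⟨y, hy⟩ : U) ^ p = 1)
  exact (eq_of_le_of_card_ge (fun y hy => zpowers_le.2 hx (mem_zpowers_of_isCyclic_of_pow_eq_one cy
    (mem_sup_left hx) (orderOf_eq_prime (pw cB x hx) x1) (mem_sup_right hy) (pw cC y hy))) (by rw [cB, cC])).symm

theorem line (h2 : IsMultiplyPretransitive A Ω 2) (nc : ¬ IsMulCommutative T) {p : ℕ} (hp : p.Prime) (k : c ≠ b)
    {B C : Subgroup A} (hB : B ≤ Zc T b) (hC : C ≤ Zc T c) (cB : Nat.card B = p) (cC : Nat.card C = p) :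
    dr (dr (B ⊔ C)) ≤ 𝒞(B ⊔ C) := by
  have := Fact.mk hp
  obtain ⟨x, hx, x1⟩ := pr_ex hp cB
  obtain ⟨-, W, nW, ⟨w, hw, e⟩, l⟩ := key h2 nc k hB (pr_isP cB) fun e => x1 (mem_bot.1 (e.le hx))
  have c1 : B ≤ 𝒞(S2 T b c) := hB.trans (inf_le_right.trans (cent_mono inf_le_left))
  have c2 : C ≤ 𝒞(S2 T b c) := hC.trans (inf_le_right.trans (cent_mono
    (le_inf (inf_le_left.trans inf_le_left) inf_le_right)))
  have e' : cj w B = C := uniq h2 nc hp (by rw [← e, ← cj_Zc]; exact cj_mono w hB) hC ((card_cj _ _).trans cB) cC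
  have l' : B ⊔ C ≤ W ⊔ B := sup_le le_sup_right (e' ▸ cj_le_of_mem le_sup_right (mem_sup_left hw))
  exact ((dr_mono ((dr_mono l').trans (dr_sup_le (c1.trans ((cent_le_norm _).trans nW)) (pr_comm hp cB)))).trans
    l).trans (le_centralizer_iff.1 (sup_le c1 c2))

theorem preS (h2 : IsMultiplyPretransitive A Ω 2) (nc : ¬ IsMulCommutative T) {p : ℕ} (hp : p.Prime) (p2 : p ≠ 2) :
    ∃ m, PreS p m {B : Subgroup A | ∃ b : Ω, B ≤ Zc T b ∧ Nat.card B = p} := by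
  have tr : ∀ B ∈ {B : Subgroup A | ∃ b : Ω, B ≤ Zc T b ∧ Nat.card B = p},
      ∀ C ∈ {B : Subgroup A | ∃ b : Ω, B ≤ Zc T b ∧ Nat.card B = p}, B ≠ C →
      ∀ B' ∈ {B : Subgroup A | ∃ b : Ω, B ≤ Zc T b ∧ Nat.card B = p},
      ∀ C' ∈ {B : Subgroup A | ∃ b : Ω, B ≤ Zc T b ∧ Nat.card B = p}, B' ≠ C' → ∃ a, cj a (B ⊔ C) = B' ⊔ C' := by
    rintro B ⟨b, hB, cB⟩ C ⟨c, hC, cC⟩ k B' ⟨b', hB', cB'⟩ C' ⟨c', hC', cC'⟩ k'
    obtain ⟨a, a1, a2⟩ := is_two_pretransitive_iff.1 h2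
      (fun e : b = c => k (uniq h2 nc hp hB (e ▸ hC) cB cC))
      (fun e : b' = c' => k' (uniq h2 nc hp hB' (e ▸ hC') cB' cC'))
    refine ⟨a, ?_⟩
    rw [cj_sup, uniq h2 nc hp (by rw [← a1, ← cj_Zc]; exact cj_mono a hB) hB' ((card_cj _ _).trans cB) cB',
      uniq h2 nc hp (by rw [← a2, ← cj_Zc]; exact cj_mono a hC) hC' ((card_cj _ _).trans cC) cC']
  obtain ⟨m, hm⟩ : ∃ m, ∀ B ∈ {B : Subgroup A | ∃ b : Ω, B ≤ Zc T b ∧ Nat.card B = p},
      ∀ C ∈ {B : Subgroup A | ∃ b : Ω, B ≤ Zc T b ∧ Nat.card B = p}, B ≠ C → Nat.card ↥(B ⊔ C) = m := by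
    by_contra! j
    obtain ⟨B, hB, C, hC, k, -⟩ := j 0
    obtain ⟨B', hB', C', hC', k', e⟩ := j (Nat.card ↥(B ⊔ C))
    obtain ⟨a, ha⟩ := tr B hB C hC k B' hB' C' hC' k'
    exact e (by rw [← ha, card_cj])
  refine ⟨m, hp, p2, fun B ⟨_, _, e⟩ => e, fun B ⟨b, hB, cB⟩ g => ⟨g • b, by rw [← cj_Zc]; exact cj_mono g hB,
    (card_cj _ _).trans cB⟩, fun B ⟨b, hB, cB⟩ C ⟨c, hC, cC⟩ => ?_, hm, fun B ⟨b, hB, cB⟩ C ⟨c, hC, cC⟩ k e => ?_, ?_⟩
  · by_cases k : c = b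
    · subst k
      rw [← uniq h2 nc hp hB hC cB cC, sup_idem]
      exact (dr_le _).trans ((dr_le _).trans (pr_comm hp cB))
    · exact line h2 nc hp k hB hC cB cC
  · obtain ⟨x, hx, x1⟩ := pr_ex hp cB
    obtain ⟨y, hy, y1⟩ := pr_ex hp cC
    exact y1 (semi h2 nc (hC hy) (fun j : b = c => k (uniq h2 nc hp hB (j ▸ hC) cB cC)) (fix h2 nc (hB hx) x1 (hC hy).1
      (commutator_eq_bot_iff'.1 e (mem_sup_left hx) y (mem_sup_right hy))))
  · by_contra! j
    obtain ⟨⟨B, hB, C, hC, k, e⟩, B', hB', C', hC', k', e'⟩ := j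
    obtain ⟨a, ha⟩ := tr B hB C hC k B' hB' C' hC' k'
    rw [← ha, dr, dr, ← cj_commutator, ← cj_commutator, cj_eq_bot] at e'
    exact e e'

end

theorem cen0 (H : FSN.{u}) {A : Type u} {Ω : Type v} [Group A] [MulAction A Ω] {T : Subgroup A} [Finite A]
    [FaithfulSMul A Ω] [Finite Ω] [T.Normal] [IsSimpleGroup T] (h2 : IsMultiplyPretransitive A Ω 2)
    (nc : ¬ IsMulCommutative T) (b : Ω) : Zc T b = ⊥ := by
  by_contra e
  obtain ⟨p, hp, k⟩ := Nat.exists_prime_and_dvd (fun j => e (eq_bot_of_card_eq _ j))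
  have := Fact.mk hp
  obtain ⟨⟨x, hx⟩, ox⟩ := exists_prime_orderOf_dvd_card' p k
  rw [← orderOf_coe] at ox
  dsimp only at ox
  have x1 : x ≠ 1 := fun j => hp.ne_one (by rw [← ox, j, orderOf_one])
  by_cases p2 : p = 2
  · have c := Inv.zstar_card_eq_two_of_simple (z := (⟨x, hx.1⟩ : T)) ⟨by rw [← orderOf_coe, ← p2]; exact ox, fun g j => by
      have h' := conj_mem_cj (g : A) hx
      rw [cj_Zc] at h'
      have gb : (g : A) • b = b := by
        by_contra q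
        exact x1 (by simpa using semi h2 nc h' (Ne.symm q) (fix h2 nc hx x1 h'.1 (congrArg Subtype.val j.eq).symm))
      exact Subtype.ext (mul_inv_eq_of_eq_mul (hx.2 g ⟨g.2, gb⟩))⟩
    have := isCyclic_of_prime_card (p := 2) c
    exact nc inferInstance
  obtain ⟨m, h⟩ := preS (T := T) h2 nc hp p2
  have h' := h.comap T.subtype_injective
  generalize hD : {B : Subgroup T | B.map T.subtype ∈ {B : Subgroup A | ∃ b : Ω, B ≤ Zc T b ∧ Nat.card B = p}} = D
    at h'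
  have nD : ∀ B ∈ D, 𝒩(B) ≤ 𝒞(B) := fun B hB g hg y hy => by
    rw [← hD] at hB
    obtain ⟨c, l, cB⟩ := hB
    by_cases y1 : (y : A) = 1
    · rw [show y = 1 from Subtype.ext y1, mul_one, one_mul]
    have a1 := conj_mem_cj (g : A) (l (mem_map_of_mem _ hy))
    rw [cj_Zc] at a1
    have gc : (g : A) • c = c := by
      by_contra q
      exact y1 (by simpa using semi h2 nc a1 (Ne.symm q) (fix' h2 nc (l (mem_map_of_mem _ (conj_mem hg hy)))))
    exact Subtype.ext ((l (mem_map_of_mem _ hy)).2 g ⟨g.2, gc⟩).symm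
  have xD : zpowers (⟨x, hx.1⟩ : T) ∈ D := by
    rw [← hD, Set.mem_ofPred_eq, MonoidHom.map_zpowers]
    exact ⟨b, zpowers_le.2 hx, (Nat.card_zpowers _).trans ox⟩
  have n : (dg D ⊤).Normal := normalizer_eq_top_iff.1 (top_le_iff.1 (le_norm_of_cj_le fun g _ =>
    cj_le_iff.2 (dg_le_of fun B hB _ => cj_le_iff.1 (le_dg (h'.inv B hB g) le_top))))
  obtain ⟨q, hq, pq⟩ := H T p m D h' nD ((IsSimpleGroup.eq_bot_or_eq_top_of_normal _ n).resolve_left fun j =>
    x1 (congrArg Subtype.val (mem_bot.1 (j.le (le_dg xD le_top (mem_zpowers _))))))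
  have := Fact.mk hq
  rcases IsSimpleGroup.eq_bot_or_eq_top_of_normal (dr (⊤ : Subgroup T)) inferInstance with j | j
  · exact nc ⟨⟨fun x y => commutator_eq_bot_iff'.1 j (mem_top y) x (mem_top x)⟩⟩
  · rw [j] at pq
    have := (pq.of_equiv topEquiv).isNilpotent
    exact nc ⟨⟨IsSimpleGroup.comm_iff_isSolvable.2 inferInstance⟩⟩

theorem cen_of (H : FSN.{v}) : Cen.{u, v} := by
  intro A Ω _ _ _ _ h2 T nT sT nc ⟨t, ht, c, tc⟩ b x hx k
  let φ := (toPermHom A Ω).rangeRestrict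
  have sj : Surjective φ := MonoidHom.rangeRestrict_surjective _
  have ap : ∀ (n : A) (d : Ω), φ n • d = n • d := fun _ _ => rfl
  have := nT.map φ sj
  have inj : Injective (φ.subgroupMap T) := (MonoidHom.ker_eq_bot_iff _).1
    ((IsSimpleGroup.eq_bot_or_eq_top_of_normal _ inferInstance).resolve_right fun j => tc (by
      have : φ t = 1 := congrArg Subtype.val (MonoidHom.mem_ker.1 (j.ge (mem_top (⟨t, ht⟩ : T))) :)
      rw [← ap, this, one_smul]))
  let e := MulEquiv.ofBijective _ ⟨inj, φ.subgroupMap_surjective T⟩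
  have : IsSimpleGroup (T.map φ) := e.symm.isSimpleGroup
  have z := cen0 H (A := (toPermHom A Ω).range) (T := T.map φ)
    (is_two_pretransitive_iff.2 fun {a b c d} j j' => let ⟨g, i⟩ := is_two_pretransitive_iff.1 h2 j j'; ⟨φ g, i⟩)
    (fun c => nc ⟨⟨fun x y => inj (by rw [map_mul, map_mul]; exact c.is_comm.comm _ _)⟩⟩) b
  have : φ x ∈ Zc (T.map φ) b := ⟨mem_map_of_mem φ hx, by
    rintro _ ⟨⟨s, hs, rfl⟩, sb⟩
    rw [← map_mul, ← map_mul, (k s hs sb).eq]⟩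
  exact congrArg Subtype.val (inj (a₁ := ⟨x, hx⟩) (a₂ := 1) (Subtype.ext ((mem_bot.1 (z.le this)).trans (map_one φ).symm)))

end CL.FS2.Cn
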