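/-
S3617: from lines of one order to the hypotheses of the F-set theorems (after `FSet/Pre`, helper27).
-/
import Cfsg.Agent.FS2.Cen
import Cfsg.Agent.FSet2.Base
import Cfsg.Agent.Grp.PGroupFrattini
import Cfsg.Agent.Grp.Cores

set_option autoImplicit false

open Cfsg Subgroup CL.Grp CL.Even Function
open CL.FSet hiding Hyp Min Mx Cx exists_mx key not_cx main main_aux
open scoped commutatorElement Pointwise

namespace CL.FS2

universe u v

variable {G : Type*} [Group G] {p q m : ℕ} {D : Set (Subgroup G)} {A B C U : Subgroup G} {g u : G} [Finite G]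

namespace PreS

theorem gen (h : PreS p m D) (hA : A ∈ D) (hB : B ∈ D) (k : A ≠ B) (hC : C ∈ D) (hU : U ∈ D) (k' : C ≠ U)
    (c : C ≤ A ⊔ B) (c' : U ≤ A ⊔ B) : C ⊔ U = A ⊔ B :=
  eq_of_le_of_card_ge (sup_le c c') ((h.lm A hA B hB k).trans (h.lm C hC U hU k').symm).le

theorem nn (h : PreS p m D) (hA : A ∈ D) (hB : B ∈ D) (k : A ≠ B) : ¬ B ≤ 𝒩(A) := fun n => by
  have := Fact.mk h.pp
  obtain ⟨a, ha, a1⟩ := pr_ex h.pp (h.card A hA)
  obtain ⟨⟨b, hb⟩, b1⟩ := ne_bot_iff_exists_ne_one.1 (inf_cent_ne_bot (pr_isP (h.card A hA)) (pr_isP (h.card B hB)) n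
    fun e => a1 (mem_bot.1 (e.le ha)))
  exact h.na A hA B hB k (dr_sup_eq_bot (pr_comm h.pp (h.card A hA)) (pr_comm h.pp (h.card B hB))
    (pr_le h.pp (h.card A hA) hb.1 (fun e => b1 (Subtype.ext e)) hb.2))

omit [Finite G] in
theorem lt (h : PreS p m D) (hA : A ∈ D) (hB : B ∈ D) (_ : A ≠ B) (a : U ≤ A ⊔ B) (b : U ≠ ⊥) : dr U < U := by
  refine lt_of_le_of_ne (dr_le U) fun e => b ?_
  have c : U ≤ 𝒞(U) := (e.ge.trans (dr_mono e.ge)).trans
    ((dr_mono (dr_mono a)).trans ((h.sol A hA B hB).trans (cent_mono a)))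
  exact e.symm.trans (commutator_eq_bot_iff'.2 c)

theorem sup (h : PreS p m D) (hA : A ∈ D) (hB : B ∈ D) (k : A ≠ B) : dr (A ⊔ B) ⊔ A = A ⊔ B := by
  obtain ⟨g, g1, g2⟩ := SetLike.not_le_iff_exists.1 (h.nn hA hB k)
  refine le_antisymm (sup_le (dr_le _) le_sup_left) ?_
  conv_lhs => rw [← h.gen hA hB k hA (h.inv A hA g) (fun e => g2 (cj_eq_iff_mem.1 e.symm)) le_sup_left
    (cj_le_of_mem le_sup_left (mem_sup_right g1))]
  exact sup_le le_sup_right ((cj_le_br g1).trans (sup_le_sup_right (commutator_mono le_sup_right le_sup_left) _))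

theorem disj (h : PreS p m D) (hA : A ∈ D) (hB : B ∈ D) (k : A ≠ B) : Disjoint A (dr (A ⊔ B)) :=
  pr_disj h.pp (h.card A hA) fun e => (h.lt hA hB k le_rfl fun j => h.na A hA B hB k
    (eq_bot_iff.2 ((dr_le _).trans j.le))).ne ((sup_eq_left.2 e).symm.trans (h.sup hA hB k))

theorem eq (h : PreS p m D) (hA : A ∈ D) (hB : B ∈ D) (k : A ≠ B) (a : U ≤ dr (A ⊔ B)) (n : A ≤ 𝒩(U))
    (hC : C ∈ D) (k' : A ≠ C) (c : C ≤ U ⊔ A) : U = dr (A ⊔ B) := by
  refine le_antisymm a fun x hx => ?_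
  have e := h.gen hA hB k hA hC k' le_sup_left (c.trans (sup_le (a.trans (dr_le _)) le_sup_left))
  obtain ⟨u, hu, y, hy, rfl⟩ := (mem_sup_nl n).1 (sup_le le_sup_right c (e.ge (dr_le _ hx)))
  rwa [disjoint_def.1 (h.disj hA hB k) hy ((mul_mem_cancel_left (a hu)).1 hx), mul_one]

/-- proper invariant subgroups are centralised -/
theorem cen (h : PreS p m D) (hA : A ∈ D) (hB : B ∈ D) (k : A ≠ B) (a : U < dr (A ⊔ B)) (n : A ≤ 𝒩(U)) :
    U ≤ 𝒞(A) := fun u hu =>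
  mem_centralizer_of_mem_normalizer_of_disjoint n ((h.disj hA hB k).mono_right a.le) hu (by_contra fun j =>
    a.ne (h.eq hA hB k a.le n (h.inv A hA u) (fun e => j (cj_eq_iff_mem.1 e.symm))
      (cj_le_of_mem le_sup_right (mem_sup_left hu))))

theorem nk (h : PreS p m D) (hA : A ∈ D) (hB : B ∈ D) (k : A ≠ B) : ¬ dr (A ⊔ B) ≤ 𝒩(A) := fun n =>
  h.nn hA hB k (le_sup_right.trans ((h.sup hA hB k).ge.trans (sup_le n le_normalizer)))

theorem isP (h : PreS p m D) (hA : A ∈ D) (hB : B ∈ D) (k : A ≠ B) :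
    ∃ q, q.Prime ∧ p ≠ q ∧ IsPGroup q (dr (A ⊔ B)) := by
  have l := h.lt hA hB k (dr_le _) (h.na A hA B hB k)
  have c : dr (dr (A ⊔ B)) ≤ 𝒞(A ⊔ B) := cent_sup A B ▸ le_inf
    (h.cen hA hB k l (le_sup_left.trans (n_dr (n_dr le_normalizer))))
    (h.cen hB hA k.symm (sup_comm A B ▸ l) (le_sup_right.trans (n_dr (n_dr le_normalizer))))
  obtain ⟨q, hq, e⟩ : ∃ q, q.Prime ∧ pCoreOf q (dr (A ⊔ B)) = dr (A ⊔ B) := by
    by_contra! j
    refine h.nk hA hB k ((le_of_forall_isPGroup_le fun r hr P a b => (le_core_of_subnIn ?_ b).trans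
      (h.cen hA hB k (lt_of_le_of_ne (core_le _) (j r hr.out))
        (le_norm_core (le_sup_left.trans (n_dr le_normalizer))))).trans (cent_le_norm A))
    exact (SubnIn.of_le_normalizer le_sup_left (sup_le le_normalizer
      (c.trans ((cent_mono (a.trans (dr_le _))).trans (cent_le_norm _))))).trans
      (SubnIn.of_le_normalizer (sup_le a l.le) (n_of_dr le_sup_right (sup_le a l.le)))
  have hP : IsPGroup q (dr (A ⊔ B)) := e ▸ core_isP _
  refine ⟨q, hq, fun j => ?_, hP⟩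
  have := Fact.mk hq
  have n : A ≤ 𝒩(dr (A ⊔ B)) := le_sup_left.trans (n_dr le_normalizer)
  obtain ⟨g, g1, g2⟩ := SetLike.not_le_iff_exists.1 (h.nk hA hB k)
  exact h.na A hA B hB k (eq_bot_of_le_commutator hP (j ▸ pr_isP (h.card A hA)) n (h.eq hA hB k
    (commutator_le_of_le_norm n) (normalizer_commutator_ge_right _ _) (h.inv A hA g)
    (fun e => g2 (cj_eq_iff_mem.1 e.symm)) (cj_le_br g1)).ge)

theorem cd (h : PreS p m D) (hA : A ∈ D) (hB : B ∈ D) (k : A ≠ B) : p * Nat.card (dr (A ⊔ B)) = m := by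
  have := card_sup_mul_card_inf (le_sup_left.trans (n_dr le_normalizer) : A ≤ 𝒩(dr (A ⊔ B)))
  rwa [sup_comm, h.sup hA hB k, (h.disj hA hB k).eq_bot, card_bot, mul_one, h.card A hA, h.lm A hA B hB k,
    eq_comm] at this

theorem lc (h : PreS p m D) (hA : A ∈ D) (hB : B ∈ D) : ∃ k ∈ dr (A ⊔ B), cj k A = B := by
  by_cases k : A = B
  · exact ⟨1, one_mem _, k ▸ cj_one A⟩
  have := Fact.mk h.pp
  obtain ⟨q, hq, e, hP⟩ := h.isP hA hB k
  have := Fact.mk hq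
  obtain ⟨n, hn⟩ := IsPGroup.iff_card.1 hP
  have s : ∀ C ∈ D, C ≤ A ⊔ B → IsSylowIn p C (A ⊔ B) := fun C hC c => ⟨c, pr_isP (h.card C hC), fun j => by
    have e1 := card_mul_relIndex c
    rw [h.card C hC, h.lm A hA B hB k, ← h.cd hA hB k, hn, Nat.mul_right_inj h.pp.ne_zero] at e1
    exact e ((Nat.prime_dvd_prime_iff_eq h.pp hq).1 (h.pp.dvd_of_dvd_pow (e1 ▸ j)))⟩
  obtain ⟨g, g1, g2⟩ := syl_conj (s A hA le_sup_left) (s B hB le_sup_right)
  obtain ⟨w, w1, x, x1, rfl⟩ := (mem_sup_nl (le_sup_left.trans (n_dr le_normalizer))).1 ((h.sup hA hB k).ge g1)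
  exact ⟨w, w1, by rw [← g2, cj_mul, cj_eq (le_normalizer x1)]⟩

theorem hyp (h : PreS p m D) (nc : ∀ A ∈ D, 𝒩(A) ≤ 𝒞(A)) (hA : A ∈ D) (hB : B ∈ D) (k : A ≠ B) :
    ∃ q, Hyp p q D := by
  obtain ⟨q, hq, e, hP⟩ := h.isP hA hB k
  have := Fact.mk hq
  obtain ⟨n, hn⟩ := IsPGroup.iff_card.1 hP
  have b : ∀ C ∈ D, dr (C ⊔ C) = ⊥ := fun C hC => by
    rw [sup_idem]; exact commutator_eq_bot_iff'.2 (pr_comm h.pp (h.card C hC))
  have lq : ∀ C ∈ D, ∀ E ∈ D, IsPGroup q (dr (C ⊔ E)) := fun C hC E hE => by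
    by_cases j : C = E
    · rw [← j, b C hC]; exact .of_bot
    · exact .of_card (Nat.eq_of_mul_eq_mul_left h.pp.pos (((h.cd hC hE j).trans (h.cd hA hB k).symm).trans (by rw [hn])))
  refine ⟨q, h.pp, hq, h.p2, e, h.card, h.inv, lq, fun C hC E hE => h.lc hC hE,
    h.dd.imp (fun j C hC E hE => ?_) (alt_of h.pp h.card h.inv hq e), fun q2 C hC E hE u hu => ?_,
    fun C hC => inf_le_right.trans (nc C hC)⟩
  · by_cases j' : C = E
    · rw [← j', b C hC]; simp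
    · exact j C hC E hE j'
  · by_cases j : C = E
    · rw [← j, b C hC, mem_bot] at hu
      rw [hu, mul_one]; exact one_mem _
    have l : (frattini (dr (C ⊔ E))).map (dr (C ⊔ E)).subtype < dr (C ⊔ E) :=
      lt_of_le_of_ne (map_subtype_le _) fun i => h.na C hC E hE j (by
        have t : frattini (dr (C ⊔ E)) = ⊤ := map_injective (dr (C ⊔ E)).subtype_injective
          (by rw [i, ← MonoidHom.range_eq_map, range_subtype])
        have := frattini_nongenerating (K := ⊥) (by rw [t, bot_sup_eq])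
        rw [← (dr (C ⊔ E)).range_subtype, MonoidHom.range_eq_map, ← this, Subgroup.map_bot])
    refine h.cen hC hE j l ((le_sup_left.trans (n_dr le_normalizer)).trans (normalizer_le_normalizer_map_subtype _))
      ⟨_, pow_mem_frattini (lq C hC E hE) ⟨u, hu⟩, ?_⟩
    rw [q2, sq]; rfl

end PreS

/-- the F-set theorem for `q = 2` -/
def Main2 : Prop := ∀ (G : Type u) [Group G] [Finite G] (p : ℕ) (D : Set (Subgroup G)), Hyp p 2 D →
  dg D ⊤ = ⊤ → IsPGroup 2 (dr (⊤ : Subgroup G))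

theorem fsn_of (H : Main2.{u}) : Cn.FSN.{u} := by
  intro G _ _ p m D h nc e
  by_cases k : ∃ A ∈ D, ∃ B ∈ D, A ≠ B
  · obtain ⟨A, hA, B, hB, k⟩ := k
    obtain ⟨q, h'⟩ := h.hyp nc hA hB k
    refine ⟨q, h'.qp, ?_⟩
    by_cases q2 : q = 2
    · subst q2; exact H G p D h' e
    · exact FSet.main ⟨h'.pp, h'.qp, h'.p2, q2, h'.pq, h'.card, h'.inv, h'.lq, h'.lc, h'.alt⟩ e
  · push Not at k
    have c : dg D ⊤ ≤ 𝒞(dg D ⊤) := dg_le_of fun A hA _ => le_cent_sSup fun B hB =>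
      k A hA B hB.1 ▸ pr_comm h.pp (h.card A hA)
    rw [e] at c
    exact ⟨2, Nat.prime_two, by rw [dr, commutator_eq_bot_iff'.2 c]; exact .of_bot⟩

theorem cen_of_main2 (H : Main2.{v}) : Cen.{u, v} := Cn.cen_of (fsn_of H)

end CL.FS2
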